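import Mathlib.RingTheory.Kaehler.TensorProduct
import Mathlib.RingTheory.Etale.Field
import Mathlib.RingTheory.Smooth.Fiber
import Mathlib.RingTheory.Smooth.Flat
import Mathlib.RingTheory.LocalRing.Module
import Mathlib.RingTheory.Finiteness.ModuleFinitePresentation

/-! Finite algebras over local rings: unramified and etale via the closed fibre. -/

set_option autoImplicit false
set_option linter.style.haveILetI false
universe u

open TensorProduct

namespace FinEtLib

variable (A B : Type u) [CommRing A] [IsLocalRing A] [CommRing B] [Algebra A B] [Module.Finite A B]

local notation "k" => IsLocalRing.ResidueField A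

attribute [local instance] Algebra.TensorProduct.rightAlgebra

theorem formallyUnramified_iff_etale_fibre :
    Algebra.FormallyUnramified A B ↔ Algebra.Etale k (k ⊗[A] B) := by
  constructor
  · intro h
    haveI := Algebra.FormallyEtale.of_formallyUnramified_of_field k (k ⊗[A] B)
    haveI : Algebra.FinitePresentation k (k ⊗[A] B) :=
      Algebra.FinitePresentation.of_finiteType.1 inferInstance
    exact {}
  · intro h
    haveI : Algebra.FiniteType A B := inferInstance
    haveI : Module.Finite A Ω[B⁄A] := Module.Finite.trans B _
    refine ⟨(IsLocalRing.subsingleton_tensorProduct (R := A)).1 ?_⟩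
    exact (KaehlerDifferential.tensorKaehlerEquivBase A k B (k ⊗[A] B)).toEquiv.subsingleton

theorem etale_iff_flat_and_etale_fibre :
    Algebra.Etale A B ↔ Module.Flat A B ∧ Algebra.Etale k (k ⊗[A] B) := by
  constructor
  · intro h
    exact ⟨inferInstance, inferInstance⟩
  · rintro ⟨hf, he⟩
    haveI := (formallyUnramified_iff_etale_fibre A B).2 he
    haveI : Module.Free A B := Module.free_of_flat_of_isLocalRing
    haveI : Module.FinitePresentation A B := Module.finitePresentation_of_projective A B
    haveI : Algebra.FinitePresentation A B := inferInstance
    exact Algebra.Etale.of_formallyUnramified_of_flat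

end FinEtLib
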